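import Cfsg.Agent.Lib.CosetEnum.Fi22Kill.DefsPart0
import Cfsg.Agent.Lib.CosetEnum.Fi22Kill.StepsPart0
import Cfsg.Agent.Lib.CosetEnum.Fi22Kill.StepsPart1
import Cfsg.Agent.Lib.CosetEnum.Fi22Kill.ClosedPart0

/-! Generated certificate. -/

set_option autoImplicit false
set_option maxRecDepth 20000

namespace Cfsg.Lib.CosetEnum.Fi22Kill

theorem step_valid {R0 : List (List Nat)} (h : shiftsOK R0 relWords = true) : step.Valid R0 where
  pos := by decide +kernel
  shifts := h
  defs := (defsOK_append (a := 4000) (b := 6412) defs_0 (defsOK_append (a := 4000) (b := 2412) defs_1 defs_2))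
  steps := (stepsOK_append (m := 3000) (n := 1560) (stepsOK_append (m := 1500) (n := 1500) steps_0 steps_1) (stepsOK_append (m := 1500) (n := 60) steps_2 steps_3))
  closed := closed_0

end Cfsg.Lib.CosetEnum.Fi22Kill
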