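import Cfsg.Agent.Lib.CosetEnum.Defs

/-! Generated table data. -/

set_option autoImplicit false
set_option maxRecDepth 20000

namespace Cfsg.Lib.CosetEnum.Fi22Kill

/-- Table data. -/
def tabZ_0_0 : Tab :=
  (.leaf 0x3a7b000000000000003a7a000000000000003a79000000000000003a78000000000000003a77000000000000003a76000000000000003a75000000000000003a74000000000000003a73)

/-- Table data. -/
def tabZ_0 : Tab :=
  tabZ_0_0

end Cfsg.Lib.CosetEnum.Fi22Kill
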